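import Groth.Agent.MorLib.Thick.Affine

/-! Morphisms of thickenings. -/

set_option autoImplicit false
universe u

namespace Groth.Agent.MorLib.Thick

open AlgebraicGeometry CategoryTheory Limits TopologicalSpace

variable {X X' S S' : Scheme.{u}} (iX : X ⟶ X') (iS : S ⟶ S') (f : X ⟶ S) (f' : X' ⟶ S')

set_option backward.isDefEq.respectTransparency.types false in
theorem isAffineHom_iff [IsClosedImmersion iX] [Surjective iX] [IsClosedImmersion iS]
    (w : iX ≫ f' = f ≫ iS) : IsAffineHom f ↔ IsAffineHom f' := by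
  constructor
  · intro _
    refine ⟨fun V hV => ?_⟩
    haveI : IsAffine ((iX ⁻¹ᵁ (f' ⁻¹ᵁ V)) : Scheme.{u}) := by
      rw [← Scheme.Hom.comp_preimage, w, Scheme.Hom.comp_preimage]
      exact (hV.preimage iS).preimage f
    haveI : IsClosedImmersion (iX ∣_ (f' ⁻¹ᵁ V)) := IsZariskiLocalAtTarget.restrict ‹IsClosedImmersion iX› _
    haveI : Surjective (iX ∣_ (f' ⁻¹ᵁ V)) := IsZariskiLocalAtTarget.restrict ‹Surjective iX› _
    exact isAffine_of_thickening (iX ∣_ (f' ⁻¹ᵁ V)) (iX ∣_ (f' ⁻¹ᵁ V)).surjective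
  · intro _
    haveI : IsAffineHom (f ≫ iS) := w ▸ inferInstance
    exact IsAffineHom.of_comp f iS

theorem isIntegralHom_iff [IsClosedImmersion iX] [Surjective iX] [IsClosedImmersion iS]
    (w : iX ≫ f' = f ≫ iS) : IsIntegralHom f ↔ IsIntegralHom f' := by
  constructor
  · intro _
    haveI : IsAffineHom f' := (isAffineHom_iff iX iS f f' w).mp inferInstance
    haveI : UniversallyClosed (iX ≫ f') := by rw [w]; infer_instance
    haveI : UniversallyClosed f' := UniversallyClosed.of_comp_surjective iX f'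
    exact IsIntegralHom.iff_universallyClosed_and_isAffineHom.mpr ⟨inferInstance, inferInstance⟩
  · intro _
    haveI : IsIntegralHom (f ≫ iS) := w ▸ inferInstance
    exact IsIntegralHom.of_comp f iS

end Groth.Agent.MorLib.Thick
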