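import Mathlib

/-! A nonzero nil quasi-coherent ideal on a quasi-compact quasi-separated scheme contains a nonzero
square-zero one. -/

set_option autoImplicit false
universe u

namespace Groth.Agent.MorLib.Thick

open AlgebraicGeometry CategoryTheory Limits TopologicalSpace Opposite

variable {X : Scheme.{u}}

/-- The ideal squares to zero on an open. -/
def SqZeroOn (J : X.IdealSheafData) (U : X.affineOpens) : Prop :=
  ∀ c ∈ J.ideal U, ∀ d ∈ J.ideal U, c * d = 0

theorem ker_ι_ideal_isNil {X₀ : Scheme.{u}} (t : X₀ ⟶ X) [IsClosedImmersion t]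
    (ht : Function.Surjective t) (U : X.affineOpens) (x : Γ(X, U)) (hx : x ∈ t.ker.ideal U) :
    IsNilpotent x := by
  rw [Scheme.Hom.ker_apply, RingHom.mem_ker] at hx
  rw [Scheme.isNilpotent_iff_basicOpen_eq_bot_of_isCompact U.2.isCompact]
  ext p
  simp only [Opens.coe_bot, Set.mem_empty_iff_false, iff_false, SetLike.mem_coe]
  intro hp
  obtain ⟨q, rfl⟩ := ht p
  have hq : q ∈ t ⁻¹ᵁ X.basicOpen x := hp
  rw [Scheme.preimage_basicOpen, hx, Scheme.basicOpen_zero] at hq
  exact hq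

theorem exists_sq_zero_elem {R : Type u} [CommRing R] {I : Ideal R} (hnil : ∀ x ∈ I, IsNilpotent x)
    (hI : ¬ ∀ c ∈ I, ∀ d ∈ I, c * d = 0) : ∃ e ∈ I, e ≠ 0 ∧ e * e = 0 := by
  classical
  push_neg at hI
  obtain ⟨c, hc, d, -, hcd⟩ := hI
  have hc0 : c ≠ 0 := fun h => hcd (by rw [h, zero_mul])
  obtain ⟨n, hn, hmin⟩ : ∃ n, c ^ n = 0 ∧ ∀ m < n, c ^ m ≠ 0 :=
    ⟨Nat.find (hnil c hc), Nat.find_spec (hnil c hc), fun m hm => Nat.find_min (hnil c hc) hm⟩
  haveI : Nontrivial R := ⟨⟨c, 0, hc0⟩⟩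
  have h2 : 2 ≤ n := by
    by_contra h
    interval_cases n <;> simp_all
  refine ⟨c ^ (n - 1), Ideal.pow_mem_of_mem _ hc _ (by omega), hmin _ (by omega), ?_⟩
  rw [← pow_add, show n - 1 + (n - 1) = n + (n - 2) by omega, pow_add, hn, zero_mul]

/-- Cutting down an ideal so that its restriction to an affine open is principal. -/
theorem exists_step [QuasiSeparatedSpace X] (U : X.affineOpens) (J : X.IdealSheafData)
    (e : Γ(X, U)) (he : e ∈ J.ideal U) :
    ∃ J' : X.IdealSheafData, J' ≤ J ∧ e ∈ J'.ideal U ∧ J'.ideal U ≤ Ideal.span {e} := by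
  have hUa : IsAffine (U.1 : Scheme.{u}) := U.2
  haveI : CompactSpace U.1 := isCompact_iff_compactSpace.mp U.2.isCompact
  haveI : QuasiCompact U.1.ι := ⟨fun W hW hWc => by
    rw [U.1.ι.isOpenEmbedding.isInducing.isCompact_iff, Set.image_preimage_eq_inter_range,
      Scheme.Opens.range_ι]
    exact QuasiSeparatedSpace.inter_isCompact _ _ hW hWc U.1.2 U.2.isCompact⟩
  have H : U.1.ι ⁻¹ᵁ U.1 = ⊤ := Opens.ext (Set.eq_univ_of_forall fun p => p.2)
  have HA : IsAffineOpen (U.1.ι ⁻¹ᵁ U.1) := by rw [H]; exact isAffineOpen_top _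
  let P : (U.1 : Scheme.{u}).IdealSheafData :=
    Scheme.IdealSheafData.ofIdealTop
      ((Ideal.span {e}).map ((U.1.ι.app U.1) ≫ (U.1 : Scheme.{u}).presheaf.map (eqToHom H.symm).op).hom)
  have hP : (P.map U.1.ι).ideal U = Ideal.span {e} := by
    rw [Scheme.IdealSheafData.ideal_map P U.1.ι U HA, Scheme.IdealSheafData.ofIdealTop_ideal,
      Ideal.map_map, ← CommRingCat.hom_comp, Category.assoc, ← Functor.map_comp]
    haveI : IsIso (U.1.ι.app U.1) := U.1.ι.isIso_app U.1 (by rw [Scheme.Opens.opensRange_ι])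
    have e1 : (eqToHom H.symm).op ≫ (homOfLE (le_top : U.1.ι ⁻¹ᵁ U.1 ≤ ⊤)).op = 𝟙 _ :=
      Subsingleton.elim _ _
    rw [e1, CategoryTheory.Functor.map_id, Category.comp_id,
      Ideal.comap_map_of_bijective _ (ConcreteCategory.bijective_of_isIso (U.1.ι.app U.1))]
  refine ⟨J ⊓ P.map U.1.ι, inf_le_left, ?_, ?_⟩
  · rw [Scheme.IdealSheafData.ideal_inf, Pi.inf_apply, Ideal.mem_inf, hP]
    exact ⟨he, Ideal.mem_span_singleton_self e⟩
  · rw [Scheme.IdealSheafData.ideal_inf, Pi.inf_apply, hP]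
    exact inf_le_right

theorem SqZeroOn.mono {J J' : X.IdealSheafData} (h : J' ≤ J) {U : X.affineOpens}
    (hJ : SqZeroOn J U) : SqZeroOn J' U :=
  fun c hc d hd => hJ c (h U hc) d (h U hd)

/-- Square zero may be checked on an affine cover. -/
theorem sqZeroOn_of_cover (J : X.IdealSheafData) {ι : Type u} (W : ι → X.affineOpens)
    (hcov : ∀ p : X, ∃ i, p ∈ (W i).1) (h : ∀ i, SqZeroOn J (W i)) (U : X.affineOpens) :
    SqZeroOn J U := by
  intro c hc d hd
  choose i hi using hcov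
  choose f g hfg hpf using fun p : U.1 =>
    exists_basicOpen_le_affine_inter U.2 (W (i p.1)).2 p.1 ⟨p.2, hi p.1⟩
  refine X.sheaf.eq_of_locally_eq' (fun p : U.1 => X.basicOpen (f p)) U.1
    (fun p => homOfLE (X.basicOpen_le _)) (fun p hp => Opens.mem_iSup.mpr ⟨⟨p, hp⟩, hpf ⟨p, hp⟩⟩)
    _ _ fun p => ?_
  show (X.presheaf.map _).hom (c * d) = (X.presheaf.map _).hom 0
  have key : ∀ a ∈ J.ideal U, ∀ b ∈ J.ideal U,
      (X.presheaf.map (homOfLE (X.basicOpen_le (f p))).op).hom a *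
        (X.presheaf.map (homOfLE (X.basicOpen_le (f p))).op).hom b = 0 := by
    intro a ha b hb
    let V : X.affineOpens := ⟨X.basicOpen (f p), U.2.basicOpen _⟩
    have ha' := J.ideal_le_comap_ideal (U := V) (V := U) (X.basicOpen_le _) ha
    have hb' := J.ideal_le_comap_ideal (U := V) (V := U) (X.basicOpen_le _) hb
    have hVle : V ≤ W (i p.1) := show X.basicOpen (f p) ≤ _ by rw [hfg p]; exact X.basicOpen_le _
    rw [Ideal.mem_comap, ← J.map_ideal hVle] at ha' hb'
    have hsq : (J.ideal (W (i p.1))).map (X.presheaf.map (homOfLE hVle).op).hom *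
        (J.ideal (W (i p.1))).map (X.presheaf.map (homOfLE hVle).op).hom ≤ ⊥ := by
      rw [← Ideal.map_mul, Ideal.map_le_iff_le_comap]
      refine Ideal.mul_le.mpr fun x hx y hy => ?_
      simp [h _ x hx y hy]
    exact hsq (Ideal.mul_mem_mul ha' hb')
  rw [map_mul, key c hc d hd, map_zero]

/-- There is a nonzero square-zero quasi-coherent subideal. -/
theorem exists_sqZero_le {X₀ : Scheme.{u}} [CompactSpace X] [QuasiSeparatedSpace X]
    (t : X₀ ⟶ X) [IsClosedImmersion t] (ht : Function.Surjective t) (hne : t.ker ≠ ⊥) :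
    ∃ J : X.IdealSheafData, J ≤ t.ker ∧ J ≠ ⊥ ∧ ∀ U, SqZeroOn J U := by
  classical
  have hcov : ∀ p : X, ∃ U : X.affineOpens, p ∈ U.1 := fun p => by
    obtain ⟨U, hU, hp, -⟩ := exists_isAffineOpen_mem_and_subset (x := p) (U := ⊤) trivial
    exact ⟨⟨U, hU⟩, hp⟩
  choose W hW using hcov
  obtain ⟨F, hF⟩ := isCompact_univ.elim_finite_subcover (fun p => (((W p).1 : X.Opens) : Set X))
    (fun p => (W p).1.2) fun p _ => Set.mem_iUnion.mpr ⟨p, hW p⟩
  have step : ∀ s : Finset X, ∃ J : X.IdealSheafData, J ≤ t.ker ∧ J ≠ ⊥ ∧ ∀ p ∈ s, SqZeroOn J (W p) := by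
    intro s
    induction s using Finset.induction with
    | empty => exact ⟨t.ker, le_rfl, hne, fun p hp => absurd hp (Finset.notMem_empty p)⟩
    | insert p s _ ih =>
      obtain ⟨J, hJt, hJ0, hJs⟩ := ih
      by_cases hp : SqZeroOn J (W p)
      · exact ⟨J, hJt, hJ0, fun q hq => (Finset.mem_insert.mp hq).elim (fun h => h ▸ hp) (hJs q)⟩
      · obtain ⟨e, he, he0, hee⟩ := exists_sq_zero_elem
          (fun x hx => ker_ι_ideal_isNil t ht (W p) x (hJt _ hx)) hp
        obtain ⟨J', hle, heJ', hspan⟩ := exists_step (W p) J e he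
        refine ⟨J', hle.trans hJt, fun h => he0 ?_, fun q hq => ?_⟩
        · rw [h] at heJ'
          simpa using heJ'
        · rcases Finset.mem_insert.mp hq with rfl | hq
          · intro c hc d hd
            obtain ⟨a, rfl⟩ := Ideal.mem_span_singleton'.mp (hspan hc)
            obtain ⟨b, rfl⟩ := Ideal.mem_span_singleton'.mp (hspan hd)
            linear_combination (a * b) * hee
          · exact (hJs q hq).mono hle
  obtain ⟨J, hJt, hJ0, hJs⟩ := step F
  refine ⟨J, hJt, hJ0, fun U => ?_⟩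
  refine sqZeroOn_of_cover J (fun p : F => W p.1) (fun q => ?_) (fun p => hJs p.1 p.2) U
  obtain ⟨p, hp, hq⟩ := Set.mem_iUnion₂.mp (hF (Set.mem_univ q))
  exact ⟨⟨p, hp⟩, hq⟩

end Groth.Agent.MorLib.Thick
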