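import Groth.Agent.MorLib.Thick.SqZero
import Groth.Agent.MorLib.Thick.NilIdeal

/-! A scheme with a surjective closed immersion from an affine scheme is affine. -/

set_option autoImplicit false
universe u

namespace Groth.Agent.MorLib.Thick

open AlgebraicGeometry CategoryTheory Limits TopologicalSpace Opposite

theorem compact_of_surjective {X X' : Scheme.{u}} (t : X ⟶ X') (ht : Function.Surjective t)
    [CompactSpace X] : CompactSpace X' :=
  ⟨by rw [← Set.range_eq_univ.mpr ht]; exact isCompact_range t.continuous⟩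

theorem qs_of_surjective {X X' : Scheme.{u}} (t : X ⟶ X') [IsClosedImmersion t]
    (ht : Function.Surjective t) [QuasiSeparatedSpace X] : QuasiSeparatedSpace X' := by
  refine ⟨fun U V hU hUc hV hVc => ?_⟩
  rw [← Set.image_preimage_eq (U ∩ V) ht, Set.preimage_inter]
  exact (QuasiSeparatedSpace.inter_isCompact _ _ (hU.preimage t.continuous)
    (t.isClosedEmbedding.isCompact_preimage hUc) (hV.preimage t.continuous)
    (t.isClosedEmbedding.isCompact_preimage hVc)).image t.continuous

/-- The maximal closed subscheme step. -/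
theorem isAffine_step {X Z : Scheme.{u}} [IsAffine X] (t : X ⟶ Z) [IsClosedImmersion t]
    (ht : Function.Surjective t) [CompactSpace Z] [QuasiSeparatedSpace Z]
    (hmax : ∀ J : Z.IdealSheafData, J ≤ t.ker → J ≠ ⊥ → IsAffine J.subscheme) : IsAffine Z := by
  by_cases hne : t.ker = ⊥
  · haveI := IsClosedImmersion.isIso_iff_ker_eq_bot.mpr hne
    exact IsAffine.of_isIso (inv t)
  obtain ⟨J, hJt, hJ0, hJsq⟩ := exists_sqZero_le t ht hne
  haveI := hmax J hJt hJ0
  have hs : Function.Surjective J.subschemeι := fun p => by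
    obtain ⟨x, rfl⟩ := ht p
    refine ⟨IsClosedImmersion.lift J.subschemeι t (by simpa using hJt) x, ?_⟩
    rw [← Scheme.Hom.comp_apply, IsClosedImmersion.lift_fac]
  refine isAffine_of_sqZero J.subschemeι hs fun U hU c d hc hd => hJsq ⟨U, hU⟩ c ?_ d ?_
  all_goals
    rw [← Scheme.IdealSheafData.ker_subschemeι_app J ⟨U, hU⟩, RingHom.mem_ker]
    assumption

section chain

variable {X' : Scheme.{u}} (c : Set X'.IdealSheafData)

/-- The system of closed subschemes of a family of ideals. -/
noncomputable def diag : (↥c)ᵒᵈ ⥤ Scheme.{u} where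
  obj K := (OrderDual.ofDual K).1.subscheme
  map f := Scheme.IdealSheafData.inclusion (show _ ≤ _ from f.le)

/-- Its cone. -/
noncomputable def cone : Limits.Cone (diag c) where
  pt := (sSup c).subscheme
  π :=
    { app := fun K => Scheme.IdealSheafData.inclusion (le_sSup (OrderDual.ofDual K).2)
      naturality := fun K L f => by
        simp [diag] }

/-- The factorisation through the closed subscheme of an ideal. -/
noncomputable abbrev liftTo {Y : Scheme.{u}} (I : X'.IdealSheafData) (g : Y ⟶ X') (h : I ≤ g.ker) :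
    Y ⟶ I.subscheme :=
  IsClosedImmersion.lift I.subschemeι g (by simpa using h)

theorem liftTo_fac {Y : Scheme.{u}} (I : X'.IdealSheafData) (g : Y ⟶ X') (h : I ≤ g.ker) :
    liftTo I g h ≫ I.subschemeι = g :=
  IsClosedImmersion.lift_fac ..

/-- The closed subscheme of the supremum is the limit. -/
noncomputable def isLimitCone [hne : Nonempty c] (hc : IsChain (· ≤ ·) c) : Limits.IsLimit (cone c) := by
  have hcomm : ∀ (s : Limits.Cone (diag c)) (K L : (↥c)ᵒᵈ),
      s.π.app K ≫ (OrderDual.ofDual K).1.subschemeι = s.π.app L ≫ (OrderDual.ofDual L).1.subschemeι := by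
    have h1 : ∀ (s : Limits.Cone (diag c)) (K L : (↥c)ᵒᵈ), K ≤ L →
        s.π.app K ≫ (OrderDual.ofDual K).1.subschemeι = s.π.app L ≫ (OrderDual.ofDual L).1.subschemeι :=
      fun s K L h => by
        refine Eq.trans ?_ ((Category.assoc _ _ _).symm.trans
          (congrArg (· ≫ (OrderDual.ofDual L).1.subschemeι) (s.w (homOfLE h))))
        exact congrArg (s.π.app K ≫ ·) (Scheme.IdealSheafData.inclusion_subschemeι _).symm
    intro s K L
    rcases hc.total (OrderDual.ofDual K).2 (OrderDual.ofDual L).2 with h | h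
    · exact (h1 s L K h).symm
    · exact h1 s K L h
  let K₀ : (↥c)ᵒᵈ := OrderDual.toDual hne.some
  refine ⟨fun s => liftTo (sSup c)
      (s.π.app K₀ ≫ (OrderDual.ofDual K₀).1.subschemeι) ?_, fun s K => ?_, fun s m hm => ?_⟩
  · refine sSup_le fun L hL => ?_
    rw [hcomm s K₀ (OrderDual.toDual ⟨L, hL⟩)]
    exact le_trans (Scheme.IdealSheafData.ker_subschemeι L).ge (Scheme.Hom.le_ker_comp _ _)
  · refine (cancel_mono (OrderDual.ofDual K).1.subschemeι).mp (Eq.trans ?_ (hcomm s K K₀).symm)
    refine (Category.assoc _ _ _).trans ?_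
    show liftTo (sSup c) _ _ ≫ Scheme.IdealSheafData.inclusion (le_sSup (OrderDual.ofDual K).2) ≫
      (OrderDual.ofDual K).1.subschemeι = _
    rw [Scheme.IdealSheafData.inclusion_subschemeι]
    exact liftTo_fac ..
  · refine (cancel_mono (sSup c).subschemeι).mp ?_
    refine Eq.trans ?_ (liftTo_fac ..).symm
    rw [← hm K₀]
    refine Eq.trans ?_ (Category.assoc _ _ _).symm
    exact congrArg (m ≫ ·) (Scheme.IdealSheafData.inclusion_subschemeι _).symm

end chain

/-- A scheme with a surjective closed immersion from an affine scheme is affine. -/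
theorem isAffine_of_thickening {X X' : Scheme.{u}} (t : X ⟶ X') [IsClosedImmersion t]
    (ht : Function.Surjective t) [IsAffine X] : IsAffine X' := by
  classical
  haveI := compact_of_surjective t ht
  haveI := qs_of_surjective t ht
  by_contra hna
  let T : Set X'.IdealSheafData := {K | K ≤ t.ker ∧ ¬ IsAffine K.subscheme}
  have hbot : ⊥ ∈ T := ⟨bot_le, fun h => hna <| by
    haveI : IsIso (⊥ : X'.IdealSheafData).subschemeι :=
      IsClosedImmersion.isIso_iff_ker_eq_bot.mpr (by simp)
    exact IsAffine.of_isIso (inv (⊥ : X'.IdealSheafData).subschemeι)⟩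
  have hsub : ∀ K : X'.IdealSheafData, CompactSpace K.subscheme ∧ QuasiSeparatedSpace K.subscheme :=
    fun K => ⟨QuasiCompact.compactSpace_of_compactSpace K.subschemeι,
      quasiSeparatedSpace_of_quasiSeparated K.subschemeι⟩
  obtain ⟨K, hK⟩ := zorn_le₀ T fun c hcT hc => by
    rcases c.eq_empty_or_nonempty with rfl | hne
    · exact ⟨⊥, hbot, fun z hz => absurd hz (Set.notMem_empty z)⟩
    refine ⟨sSup c, ⟨sSup_le fun z hz => (hcT hz).1, fun haff => ?_⟩, fun z hz => le_sSup hz⟩
    haveI : Nonempty c := hne.to_subtype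
    haveI : Nonempty (↥c)ᵒᵈ := ‹Nonempty c›
    haveI : IsDirectedOrder (↥c) := ⟨fun a b => (hc.total a.2 b.2).elim
      (fun h => ⟨b, h, le_rfl⟩) (fun h => ⟨a, le_rfl, h⟩)⟩
    haveI : IsCofiltered (↥c)ᵒᵈ := inferInstance
    haveI : ∀ {i j : (↥c)ᵒᵈ} (f : i ⟶ j), IsAffineHom ((diag c).map f) := fun {i j} f => by
      let f' : (OrderDual.ofDual i).1.subscheme ⟶ (OrderDual.ofDual j).1.subscheme :=
        Scheme.IdealSheafData.inclusion (show _ ≤ _ from f.le)
      haveI : IsClosedImmersion (f' ≫ (OrderDual.ofDual j).1.subschemeι) := by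
        simp [f']; infer_instance
      haveI : IsClosedImmersion f' :=
        IsClosedImmersion.of_comp f' (OrderDual.ofDual j).1.subschemeι
      exact inferInstanceAs (IsAffineHom f')
    haveI : ∀ i, CompactSpace ((diag c).obj i) := fun i => (hsub _).1
    haveI : ∀ i, QuasiSeparatedSpace ((diag c).obj i) := fun i => (hsub _).2
    haveI : IsAffine (cone c).pt := haff
    obtain ⟨i, hi⟩ := Scheme.exists_isAffine_of_isLimit (diag c) (cone c) (isLimitCone c hc)
    exact (hcT (OrderDual.ofDual i).2).2 hi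
  obtain ⟨hKt, hKna⟩ := hK.1
  apply hKna
  haveI := (hsub K).1
  haveI := (hsub K).2
  let t' : X ⟶ K.subscheme := IsClosedImmersion.lift K.subschemeι t (by simpa using hKt)
  have ht'ι : t' ≫ K.subschemeι = t := IsClosedImmersion.lift_fac ..
  haveI : IsClosedImmersion (t' ≫ K.subschemeι) := by rw [ht'ι]; infer_instance
  haveI : IsClosedImmersion t' := IsClosedImmersion.of_comp t' K.subschemeι
  have ht' : Function.Surjective t' := fun p => by
    obtain ⟨x, hx⟩ := ht (K.subschemeι p)
    refine ⟨x, K.subschemeι.isClosedEmbedding.injective ?_⟩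
    rw [← Scheme.Hom.comp_apply, ht'ι, hx]
  refine isAffine_step t' ht' fun J hJ hJ0 => ?_
  have hKL : K ≤ J.map K.subschemeι := by
    calc K = (⊥ : K.subscheme.IdealSheafData).map K.subschemeι := by simp
      _ ≤ J.map K.subschemeι := Scheme.IdealSheafData.map_mono _ bot_le
  have hLt : J.map K.subschemeι ≤ t.ker :=
    calc J.map K.subschemeι ≤ t'.ker.map K.subschemeι := Scheme.IdealSheafData.map_mono _ hJ
      _ = t.ker := by rw [Scheme.IdealSheafData.map_ker, ht'ι]
  haveI : IsClosedImmersion (J.subschemeι ≫ K.subschemeι) := inferInstance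
  let l : J.subscheme ⟶ (J.map K.subschemeι).subscheme :=
    Scheme.IdealSheafData.subschemeMap J (J.map K.subschemeι) K.subschemeι le_rfl
  haveI : IsIso l := IsClosedImmersion.isIso_of_ker_eq (J.subschemeι ≫ K.subschemeι)
    (J.map K.subschemeι).subschemeι l (by simp [l])
    (by simp [Scheme.IdealSheafData.map])
  by_contra hJna
  have hmem : J.map K.subschemeι ∈ T := ⟨hLt, fun h => hJna (IsAffine.of_isIso l)⟩
  have hge := hK.2 hmem hKL
  haveI : IsIso J.subschemeι := IsClosedImmersion.isIso_of_ker_eq (J.subschemeι ≫ K.subschemeι)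
    K.subschemeι J.subschemeι rfl
    (by rw [Scheme.IdealSheafData.ker_subschemeι]; exact le_antisymm hge hKL)
  exact hJ0 (by rw [← J.ker_subschemeι]; exact Scheme.Hom.ker_eq_bot_of_isIso _)

end Groth.Agent.MorLib.Thick
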