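import Groth.Agent.MorLib.Thick.Affine

/-! A scheme with a surjective closed immersion from a quasi-affine scheme is quasi-affine. -/

set_option autoImplicit false
universe u

namespace Groth.Agent.MorLib.Thick

open AlgebraicGeometry CategoryTheory Limits TopologicalSpace Opposite

theorem pow_succ_sub {R : Type u} [CommRing R] (a b : R) (h : (a - b) * (a - b) = 0) (n : ℕ) :
    a ^ (n + 1) - b ^ (n + 1) = ((n + 1 : ℕ) : R) * (a ^ n * (a - b)) := by
  induction n with
  | zero => simp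
  | succ n ih =>
    have e : b ^ (n + 1) * (a - b) = a ^ (n + 1) * (a - b) := by
      obtain ⟨c, hc⟩ := sub_dvd_pow_sub_pow a b (n + 1)
      linear_combination (-(a - b)) * hc - c * h
    push_cast
    push_cast at ih
    linear_combination a * ih + e

variable {Z₀ Z : Scheme.{u}} (t : Z₀ ⟶ Z) [IsClosedImmersion t] (ht : Function.Surjective t)
include ht

theorem isAffineOpen_of_preimage {V : Z.Opens} (h : IsAffineOpen (t ⁻¹ᵁ V)) : IsAffineOpen V := by
  haveI : IsAffine (t ⁻¹ᵁ V : Scheme.{u}) := h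
  haveI : IsClosedImmersion (t ∣_ V) := IsZariskiLocalAtTarget.restrict ‹IsClosedImmersion t› _
  refine isAffine_of_thickening (t ∣_ V) fun p => ?_
  obtain ⟨x, hx⟩ := ht p.1
  refine ⟨⟨x, show t x ∈ V by rw [hx]; exact p.2⟩, Subtype.ext ?_⟩
  show V.ι ((t ∣_ V) _) = p.1
  rw [← Scheme.Hom.comp_apply, morphismRestrict_ι]
  exact hx

variable (hsq : ∀ U : Z.Opens, IsAffineOpen U → ∀ c d : Γ(Z, U),
  t.app U c = 0 → t.app U d = 0 → c * d = 0) [Z₀.IsSeparated]
include hsq

/-- Some positive power of a function with affine non-vanishing locus lifts. -/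
theorem exists_lift_pow {ι : Type u} [Finite ι] (U : ι → Z.Opens) (hU : ∀ j, IsAffineOpen (U j))
    (hcov : ⨆ j, U j = ⊤) (g : Γ(Z₀, ⊤)) (W : Z.Opens) (hW : IsAffineOpen W)
    (hpre : t ⁻¹ᵁ W = Z₀.basicOpen g) :
    ∃ (n : ℕ) (s : Γ(Z, ⊤)), t.app ⊤ s = g ^ (n + 1) := by
  classical
  let := Fintype.ofFinite ι
  choose G hG hGo using fun j => exists_lift t ht (hU j) g W hpre
  obtain ⟨xW, hxW⟩ := t.app_surjective W hW (rs Z₀ le_top g)
  have hU2 : ∀ j l, IsAffineOpen (U j ⊓ U l) := fun j l => by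
    refine isAffineOpen_of_preimage t ht ?_
    exact ((hU j).preimage t).inf ((hU l).preimage t)
  let c : ∀ j, Γ(Z, U j ⊓ W) := fun j => rs Z inf_le_left (G j) - rs Z inf_le_right xW
  have hc : ∀ j, t.app _ (c j) = 0 := fun j => by
    simp only [c, map_sub, app_rs, hG, hxW, rs_rs, sub_self]
  choose n y hy hyr using fun j => exists_ext t ht (hU j) (G j) inf_le_left (hGo j) (c j) (hc j)
  let N := Finset.univ.sup n
  let y' : ∀ j, Γ(Z, U j) := fun j => G j ^ (N - n j) * y j
  have hy' : ∀ j, t.app _ (y' j) = 0 := fun j => by simp [y', hy]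
  have hyr' : ∀ j, rs Z inf_le_left (y' j) = rs Z inf_le_left (G j) ^ N * c j := by
    intro j
    have hle : n j ≤ N := Finset.le_sup (f := n) (Finset.mem_univ j)
    simp only [y', map_mul, map_pow]
    rw [hyr, ← mul_assoc, ← pow_add, Nat.sub_add_cancel hle]
  let H : ∀ j l, Γ(Z, U j ⊓ U l) := fun j _ => rs Z inf_le_left (G j)
  let cc : ∀ j l, Γ(Z, U j ⊓ U l) := fun j l => rs Z inf_le_left (G j) - rs Z inf_le_right (G l)
  have hcc : ∀ j l, t.app _ (cc j l) = 0 := fun j l => by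
    simp only [cc, map_sub, app_rs, hG, rs_rs, sub_self]
  let d : ∀ j l, Γ(Z, U j ⊓ U l) := fun j l =>
    rs Z inf_le_left (y' j) - rs Z inf_le_right (y' l) - H j l ^ N * cc j l
  have hd : ∀ j l, ∃ m, H j l ^ m * d j l = 0 := by
    intro j l
    have e1 : U j ⊓ U l ⊓ W = Z.basicOpen (H j l) := by
      show _ = Z.basicOpen (Z.presheaf.map _ (G j))
      rw [Scheme.basicOpen_res, ← hGo]
      ac_rfl
    have aff : IsAffineOpen (U j ⊓ U l ⊓ W) := e1 ▸ (hU2 j l).basicOpen _
    refine exists_pow_mul_eq_zero t ht (hU2 j l) _ inf_le_left e1 _ ?_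
    let V := U j ⊓ U l ⊓ W
    have hj : V ≤ U j := inf_le_left.trans inf_le_left
    have hl : V ≤ U l := inf_le_left.trans inf_le_right
    have hjW : V ≤ U j ⊓ W := le_inf hj inf_le_right
    have hlW : V ≤ U l ⊓ W := le_inf hl inf_le_right
    have a1 : rs Z hj (y' j) = rs Z hj (G j) ^ N * rs Z hjW (c j) := by
      have := congr(rs Z hjW $(hyr' j))
      simpa [rs_rs] using this
    have a2 : rs Z hl (y' l) = rs Z hl (G l) ^ N * rs Z hlW (c l) := by
      have := congr(rs Z hlW $(hyr' l))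
      simpa [rs_rs] using this
    have a3 : rs Z hl (G l) ^ N * rs Z hlW (c l) = rs Z hj (G j) ^ N * rs Z hlW (c l) := by
      refine mul_congr t hsq aff ?_ (by rw [app_rs, hc, map_zero])
      simp only [map_pow, app_rs, hG, rs_rs]
    have a4 : rs Z hjW (c j) - rs Z hlW (c l) = rs Z inf_le_left (cc j l) := by
      simp only [c, cc, map_sub, rs_rs]
      ring
    simp only [d, H, map_sub, map_mul, map_pow, rs_rs]
    rw [← a4]
    erw [a1, a2, a3]
    ring
  choose m hm using hd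
  let M := Finset.univ.sup fun p : ι × ι => m p.1 p.2
  have hM : ∀ j l, H j l ^ M * d j l = 0 := by
    intro j l
    have hle : m j l ≤ M := Finset.le_sup (f := fun p : ι × ι => m p.1 p.2) (Finset.mem_univ (j, l))
    rw [← Nat.sub_add_cancel hle, pow_add, mul_assoc, hm, mul_zero]
  let b : ∀ j, Γ(Z, U j) := fun j => G j ^ M * y' j
  have hbc : ∀ j l, rs Z inf_le_left (b j) - rs Z inf_le_right (b l) = H j l ^ (M + N) * cc j l := by
    intro j l
    have e1 : rs Z inf_le_right (b l) = H j l ^ M * rs Z inf_le_right (y' l) := by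
      rw [map_mul]
      refine mul_congr t hsq (hU2 j l) ?_ (by rw [app_rs, hy', map_zero])
      simp only [H, map_pow, app_rs, hG, rs_rs]
    rw [e1, map_mul, map_pow]
    have := hM j l
    simp only [d] at this
    linear_combination this
  let L := M + N
  let x : ∀ j, Γ(Z, U j) := fun j => G j ^ (L + 1) - ((L + 1 : ℕ) : Γ(Z, U j)) * b j
  obtain ⟨s, hs, -⟩ := Z.sheaf.existsUnique_gluing' U ⊤ (fun j => homOfLE le_top) hcov.ge x
    (fun j l => by
      show rs Z inf_le_left (x j) = rs Z inf_le_right (x l)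
      have hp := pow_succ_sub (rs Z inf_le_left (G j)) (rs Z inf_le_right (G l))
        (hsq _ (hU2 j l) _ _ (hcc j l) (hcc j l)) L
      have := hbc j l
      simp only [x, map_sub, map_mul, map_pow, map_natCast]
      simp only [H, cc, L] at this hp ⊢
      linear_combination hp - ((M + N + 1 : ℕ) : Γ(Z, U j ⊓ U l)) * this)
  refine ⟨L, s, ?_⟩
  refine Z₀.sheaf.eq_of_locally_eq' (fun j => t ⁻¹ᵁ U j) ⊤ (fun j => homOfLE le_top) ?_ _ _ fun j => ?_
  · intro z _
    obtain ⟨j, hj⟩ := Opens.mem_iSup.mp (show t z ∈ ⨆ j, U j by rw [hcov]; trivial)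
    exact Opens.mem_iSup.mpr ⟨j, hj⟩
  · show rs Z₀ le_top (t.app ⊤ s) = rs Z₀ le_top (g ^ (L + 1))
    have e := app_rs t (le_top : U j ≤ ⊤) s
    rw [show rs Z le_top s = x j from hs j] at e
    simp only [x, b, map_sub, map_mul, map_pow, hG, hy', mul_zero, sub_zero] at e
    rw [map_pow]
    exact e.symm

/-- A square-zero thickening of a quasi-affine scheme is quasi-affine. -/
theorem isQuasiAffine_of_sqZero [Z₀.IsQuasiAffine] : Z.IsQuasiAffine := by
  classical
  haveI : CompactSpace Z := compact_of_surjective t ht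
  have hcov : ∀ p : Z, ∃ V : Z.affineOpens, p ∈ V.1 := fun p => by
    obtain ⟨V, hV, hp, -⟩ := exists_isAffineOpen_mem_and_subset (x := p) (U := ⊤) trivial
    exact ⟨⟨V, hV⟩, hp⟩
  choose U hU using hcov
  obtain ⟨F, hF⟩ := isCompact_univ.elim_finite_subcover (fun p => (((U p).1 : Z.Opens) : Set Z))
    (fun p => (U p).1.2) fun p _ => Set.mem_iUnion.mpr ⟨p, hU p⟩
  have hcov : ⨆ j : F, (U j).1 = ⊤ := top_le_iff.mp fun p _ => by
    obtain ⟨q, hq, hp⟩ := Set.mem_iUnion₂.mp (hF (Set.mem_univ p))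
    exact Opens.mem_iSup.mpr ⟨⟨q, hq⟩, hp⟩
  refine Scheme.IsQuasiAffine.of_forall_exists_mem_basicOpen Z fun p => ?_
  obtain ⟨z, rfl⟩ := ht p
  obtain ⟨_, ⟨_, ⟨g, hg, rfl⟩, rfl⟩, hzg, hgV⟩ :=
    (Scheme.IsQuasiAffine.isBasis_basicOpen Z₀).exists_subset_of_mem_open
      (show z ∈ t ⁻¹ᵁ (U (t z)).1 from hU (t z)) (t ⁻¹ᵁ (U (t z)).1).isOpen
  obtain ⟨G, hG⟩ := t.app_surjective (U (t z)).1 (U (t z)).2 (rs Z₀ le_top g)
  have hW : t ⁻¹ᵁ Z.basicOpen G = Z₀.basicOpen g := by
    rw [Scheme.preimage_basicOpen, hG, rs, Scheme.basicOpen_res, inf_eq_right.mpr (show Z₀.basicOpen g ≤ t ⁻¹ᵁ (U (t z)).1 from hgV)]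
  obtain ⟨n, s, hs⟩ := exists_lift_pow t ht hsq (fun j : F => (U j).1) (fun j => (U j).2) hcov g
    (Z.basicOpen G) ((U (t z)).2.basicOpen G) hW
  have hb : Z.basicOpen s = Z.basicOpen G := by
    refine preimage_inj t ht ?_
    rw [hW, Scheme.preimage_basicOpen, hs]
    exact Scheme.basicOpen_pow _ _ (Nat.succ_pos n)
  refine ⟨s, hb ▸ (U (t z)).2.basicOpen G, ?_⟩
  rw [hb]
  show z ∈ t ⁻¹ᵁ Z.basicOpen G
  rw [hW]
  exact hzg

omit ht hsq in
/-- A scheme with a surjective closed immersion from a quasi-affine scheme is quasi-affine. -/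
theorem isQuasiAffine_of_thickening {X X' : Scheme.{u}} (t : X ⟶ X') [IsClosedImmersion t]
    (ht : Function.Surjective t) [X.IsQuasiAffine] : X'.IsQuasiAffine := by
  classical
  haveI := compact_of_surjective t ht
  haveI := qs_of_surjective t ht
  by_contra hna
  let T : Set X'.IdealSheafData := {K | K ≤ t.ker ∧ ¬ K.subscheme.IsQuasiAffine}
  have hbot : ⊥ ∈ T := ⟨bot_le, fun h => hna <| by
    haveI : IsIso (⊥ : X'.IdealSheafData).subschemeι :=
      IsClosedImmersion.isIso_iff_ker_eq_bot.mpr (by simp)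
    exact Scheme.IsQuasiAffine.of_isAffineHom (inv (⊥ : X'.IdealSheafData).subschemeι)⟩
  have hsub : ∀ K : X'.IdealSheafData, CompactSpace K.subscheme ∧ QuasiSeparatedSpace K.subscheme :=
    fun K => ⟨QuasiCompact.compactSpace_of_compactSpace K.subschemeι,
      quasiSeparatedSpace_of_quasiSeparated K.subschemeι⟩
  obtain ⟨K, hK⟩ := zorn_le₀ T fun c hcT hc => by
    rcases c.eq_empty_or_nonempty with rfl | hne
    · exact ⟨⊥, hbot, fun z hz => absurd hz (Set.notMem_empty z)⟩
    refine ⟨sSup c, ⟨sSup_le fun z hz => (hcT hz).1, fun haff => ?_⟩, fun z hz => le_sSup hz⟩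
    haveI : Nonempty c := hne.to_subtype
    haveI : Nonempty (↥c)ᵒᵈ := ‹Nonempty c›
    haveI : IsDirectedOrder (↥c) := ⟨fun a b => (hc.total a.2 b.2).elim
      (fun h => ⟨b, h, le_rfl⟩) (fun h => ⟨a, le_rfl, h⟩)⟩
    haveI : IsCofiltered (↥c)ᵒᵈ := inferInstance
    haveI : ∀ {i j : (↥c)ᵒᵈ} (f : i ⟶ j), IsAffineHom ((diag c).map f) := fun {i j} f => by
      let f' : (OrderDual.ofDual i).1.subscheme ⟶ (OrderDual.ofDual j).1.subscheme :=
        Scheme.IdealSheafData.inclusion (show _ ≤ _ from f.le)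
      haveI : IsClosedImmersion (f' ≫ (OrderDual.ofDual j).1.subschemeι) := by
        simp [f']; infer_instance
      haveI : IsClosedImmersion f' :=
        IsClosedImmersion.of_comp f' (OrderDual.ofDual j).1.subschemeι
      exact inferInstanceAs (IsAffineHom f')
    haveI : ∀ i, CompactSpace ((diag c).obj i) := fun i => (hsub _).1
    haveI : ∀ i, QuasiSeparatedSpace ((diag c).obj i) := fun i => (hsub _).2
    haveI : (cone c).pt.IsQuasiAffine := haff
    obtain ⟨i, hi⟩ := Scheme.exists_isQuasiAffine_of_isLimit (diag c) (cone c) (isLimitCone c hc)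
    exact (hcT (OrderDual.ofDual i).2).2 hi
  obtain ⟨hKt, hKna⟩ := hK.1
  apply hKna
  haveI := (hsub K).1
  haveI := (hsub K).2
  let t' : X ⟶ K.subscheme := IsClosedImmersion.lift K.subschemeι t (by simpa using hKt)
  have ht'ι : t' ≫ K.subschemeι = t := IsClosedImmersion.lift_fac ..
  haveI : IsClosedImmersion (t' ≫ K.subschemeι) := by rw [ht'ι]; infer_instance
  haveI : IsClosedImmersion t' := IsClosedImmersion.of_comp t' K.subschemeι
  have ht' : Function.Surjective t' := fun p => by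
    obtain ⟨x, hx⟩ := ht (K.subschemeι p)
    refine ⟨x, K.subschemeι.isClosedEmbedding.injective ?_⟩
    rw [← Scheme.Hom.comp_apply, ht'ι, hx]
  by_cases hne' : t'.ker = ⊥
  · haveI := IsClosedImmersion.isIso_iff_ker_eq_bot.mpr hne'
    exact Scheme.IsQuasiAffine.of_isAffineHom (inv t')
  obtain ⟨J, hJ, hJ0, hJsq⟩ := exists_sqZero_le t' ht' hne'
  have hKL : K ≤ J.map K.subschemeι := by
    calc K = (⊥ : K.subscheme.IdealSheafData).map K.subschemeι := by simp
      _ ≤ J.map K.subschemeι := Scheme.IdealSheafData.map_mono _ bot_le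
  have hLt : J.map K.subschemeι ≤ t.ker :=
    calc J.map K.subschemeι ≤ t'.ker.map K.subschemeι := Scheme.IdealSheafData.map_mono _ hJ
      _ = t.ker := by rw [Scheme.IdealSheafData.map_ker, ht'ι]
  let l : J.subscheme ⟶ (J.map K.subschemeι).subscheme :=
    Scheme.IdealSheafData.subschemeMap J (J.map K.subschemeι) K.subschemeι le_rfl
  haveI : IsIso l := IsClosedImmersion.isIso_of_ker_eq (J.subschemeι ≫ K.subschemeι)
    (J.map K.subschemeι).subschemeι l (by simp [l])
    (by simp [Scheme.IdealSheafData.map])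
  have hQ : J.subscheme.IsQuasiAffine := by
    by_contra hJna
    have hmem : J.map K.subschemeι ∈ T :=
      ⟨hLt, fun h => hJna (Scheme.IsQuasiAffine.of_isAffineHom l)⟩
    have hge := hK.2 hmem hKL
    haveI : IsIso J.subschemeι := IsClosedImmersion.isIso_of_ker_eq (J.subschemeι ≫ K.subschemeι)
      K.subschemeι J.subschemeι rfl
      (by rw [Scheme.IdealSheafData.ker_subschemeι]; exact le_antisymm hge hKL)
    exact hJ0 (by rw [← J.ker_subschemeι]; exact Scheme.Hom.ker_eq_bot_of_isIso _)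
  haveI := hQ
  have hs : Function.Surjective J.subschemeι := fun p => by
    obtain ⟨x, rfl⟩ := ht' p
    refine ⟨IsClosedImmersion.lift J.subschemeι t' (by simpa using hJ) x, ?_⟩
    rw [← Scheme.Hom.comp_apply, IsClosedImmersion.lift_fac]
  refine isQuasiAffine_of_sqZero J.subschemeι hs fun U hU a b ha hb => hJsq ⟨U, hU⟩ a ?_ b ?_
  all_goals
    rw [← Scheme.IdealSheafData.ker_subschemeι_app J ⟨U, hU⟩, RingHom.mem_ker]
    assumption

end Groth.Agent.MorLib.Thick
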