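import Mathlib

/-! A square-zero thickening of an affine scheme is affine. -/

set_option autoImplicit false
universe u

namespace Groth.Agent.MorLib.Thick

open AlgebraicGeometry CategoryTheory Limits TopologicalSpace Opposite

variable {Z₀ Z : Scheme.{u}}

/-- Restriction of sections. -/
abbrev rs (X : Scheme.{u}) {U V : X.Opens} (h : V ≤ U) : Γ(X, U) →+* Γ(X, V) :=
  (X.presheaf.map (homOfLE h).op).hom

theorem rs_rs (X : Scheme.{u}) {U V W : X.Opens} (h : V ≤ U) (h' : W ≤ V) (x : Γ(X, U)) :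
    rs X h' (rs X h x) = rs X (h'.trans h) x := by
  rw [← RingHom.comp_apply, ← CommRingCat.hom_comp, ← Functor.map_comp]
  rfl

theorem rs_self (X : Scheme.{u}) {U : X.Opens} (h : U ≤ U) (x : Γ(X, U)) : rs X h x = x := by
  simp [rs]

variable (t : Z₀ ⟶ Z)

theorem pre_le {U V : Z.Opens} (h : V ≤ U) : t ⁻¹ᵁ V ≤ t ⁻¹ᵁ U := fun _ hx => h hx

theorem app_rs {U V : Z.Opens} (h : V ≤ U) (x : Γ(Z, U)) :
    t.app V (rs Z h x) = rs Z₀ (pre_le t h) (t.app U x) := by
  have := congr($(t.naturality (homOfLE h).op).hom x)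
  exact this

variable (ht : Function.Surjective t)
include ht

theorem preimage_inj {U V : Z.Opens} (h : t ⁻¹ᵁ U = t ⁻¹ᵁ V) : U = V := by
  ext z
  obtain ⟨x, rfl⟩ := ht z
  exact SetLike.ext_iff.mp h x

variable [IsClosedImmersion t] [IsAffine Z₀]

omit [IsAffine Z₀] in
/-- Lifting a global function to an affine open. -/
theorem exists_lift {V : Z.Opens} (hV : IsAffineOpen V) (g : Γ(Z₀, ⊤)) (W : Z.Opens)
    (hW : t ⁻¹ᵁ W = Z₀.basicOpen g) :
    ∃ G : Γ(Z, V), t.app V G = rs Z₀ le_top g ∧ V ⊓ W = Z.basicOpen G := by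
  obtain ⟨G, hG⟩ := t.app_surjective V hV (rs Z₀ le_top g)
  refine ⟨G, hG, preimage_inj t ht ?_⟩
  rw [Scheme.preimage_basicOpen, hG, rs, Scheme.basicOpen_res, ← hW]
  rfl

omit [IsAffine Z₀] in
theorem exists_pow_mul_eq_zero {V : Z.Opens} (hV : IsAffineOpen V) (G : Γ(Z, V)) {V' : Z.Opens}
    (h : V' ≤ V) (e : V' = Z.basicOpen G) (y : Γ(Z, V)) (hy : rs Z h y = 0) :
    ∃ n, G ^ n * y = 0 := by
  letI := (rs Z h).toAlgebra
  haveI : IsLocalization.Away G Γ(Z, V') := hV.isLocalization_of_eq_basicOpen G (homOfLE h) e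
  obtain ⟨⟨_, n, rfl⟩, hn⟩ := (IsLocalization.map_eq_zero_iff (Submonoid.powers G) Γ(Z, V') y).mp hy
  exact ⟨n, hn⟩

omit [IsAffine Z₀] in
/-- A section of the ideal on a basic open extends after multiplication by a power. -/
theorem exists_ext {V : Z.Opens} (hV : IsAffineOpen V) (G : Γ(Z, V)) {V' : Z.Opens}
    (h : V' ≤ V) (e : V' = Z.basicOpen G) (c : Γ(Z, V')) (hc : t.app V' c = 0) :
    ∃ (n : ℕ) (y : Γ(Z, V)), t.app V y = 0 ∧ rs Z h y = rs Z h G ^ n * c := by
  letI := (rs Z h).toAlgebra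
  haveI : IsLocalization.Away G Γ(Z, V') := hV.isLocalization_of_eq_basicOpen G (homOfLE h) e
  obtain ⟨⟨y, ⟨_, n, rfl⟩⟩, hy⟩ := IsLocalization.surj (Submonoid.powers G) c
  have hy' : rs Z h y = rs Z h G ^ n * c := by
    rw [← map_pow, mul_comm]; exact hy.symm
  have hz : rs Z₀ (pre_le t h) (t.app V y) = 0 := by
    rw [← app_rs t h, hy', map_mul, hc, mul_zero]
  have hVaff : IsAffineOpen (t ⁻¹ᵁ V) := hV.preimage t
  letI := (rs Z₀ (pre_le t h)).toAlgebra
  haveI : IsLocalization.Away (t.app V G) Γ(Z₀, t ⁻¹ᵁ V') :=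
    hVaff.isLocalization_of_eq_basicOpen (t.app V G) (homOfLE (pre_le t h))
      (by rw [e, Scheme.preimage_basicOpen])
  obtain ⟨⟨_, m, rfl⟩, hm⟩ :=
    (IsLocalization.map_eq_zero_iff (Submonoid.powers (t.app V G)) Γ(Z₀, t ⁻¹ᵁ V') (t.app V y)).mp hz
  refine ⟨m + n, G ^ m * y, ?_, ?_⟩
  · rw [map_mul, map_pow]; exact hm
  · rw [map_mul, map_pow, hy', pow_add, mul_assoc]

variable (hsq : ∀ U : Z.Opens, IsAffineOpen U → ∀ c d : Γ(Z, U),
  t.app U c = 0 → t.app U d = 0 → c * d = 0)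
include hsq

omit [IsAffine Z₀] [IsClosedImmersion t] ht in
theorem mul_congr {U : Z.Opens} (hU : IsAffineOpen U) {x x' c : Γ(Z, U)}
    (h : t.app U x = t.app U x') (hc : t.app U c = 0) : x * c = x' * c := by
  rw [← sub_eq_zero, ← sub_mul]
  exact hsq U hU _ _ (by rw [map_sub, h, sub_self]) hc

/-- Global functions lift along a square-zero thickening of an affine scheme. -/
theorem appTop_surjective {ι : Type u} [Finite ι] (W : ι → Z.Opens) (g : ι → Γ(Z₀, ⊤))
    (hW : ∀ j, IsAffineOpen (W j)) (hpre : ∀ j, t ⁻¹ᵁ W j = Z₀.basicOpen (g j))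
    (hcov : ⨆ j, W j = ⊤) : Function.Surjective t.appTop := by
  classical
  let := Fintype.ofFinite ι
  intro a
  have hspan : Ideal.span (Set.range g) = ⊤ := by
    rw [← (isAffineOpen_top Z₀).iSup_basicOpen_eq_self_iff]
    refine top_le_iff.mp fun z _ => ?_
    obtain ⟨j, hj⟩ := Opens.mem_iSup.mp (show t z ∈ ⨆ j, W j by rw [hcov]; trivial)
    exact Opens.mem_iSup.mpr ⟨⟨g j, j, rfl⟩, hpre j ▸ hj⟩
  choose G hG hGo using fun j k => exists_lift t ht (hW j) (g k) (W k) (hpre k)
  have hW2 : ∀ j k, IsAffineOpen (W j ⊓ W k) := fun j k => by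
    rw [hGo]; exact (hW j).basicOpen _
  choose x hx using fun j => t.app_surjective (W j) (hW j) (rs Z₀ le_top a)
  let c : ∀ j k, Γ(Z, W j ⊓ W k) := fun j k => rs Z inf_le_left (x j) - rs Z inf_le_right (x k)
  have hc : ∀ j k, t.app _ (c j k) = 0 := fun j k => by
    simp only [c, map_sub, app_rs, hx, rs_rs, sub_self]
  choose n y hy hyr using fun j k =>
    exists_ext t ht (hW j) (G j k) inf_le_left (hGo j k) (c j k) (hc j k)
  let N := Finset.univ.sup fun p : ι × ι => n p.1 p.2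
  let y' : ∀ j, ι → Γ(Z, W j) := fun j k => G j k ^ (N - n j k) * y j k
  have hy' : ∀ j k, t.app _ (y' j k) = 0 := fun j k => by simp [y', hy]
  have hyr' : ∀ j k, rs Z inf_le_left (y' j k) = rs Z inf_le_left (G j k) ^ N * c j k := by
    intro j k
    have hle : n j k ≤ N := Finset.le_sup (f := fun p : ι × ι => n p.1 p.2) (Finset.mem_univ (j, k))
    simp only [y', map_mul, map_pow]
    rw [hyr, ← mul_assoc, ← pow_add, Nat.sub_add_cancel hle]
  -- differences on double intersections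
  let H : ∀ j l, ι → Γ(Z, W j ⊓ W l) := fun j l k => rs Z inf_le_left (G j k)
  let d : ∀ j l, ι → Γ(Z, W j ⊓ W l) := fun j l k =>
    rs Z inf_le_left (y' j k) - rs Z inf_le_right (y' l k) - H j l k ^ N * c j l
  have hd : ∀ j l k, ∃ m, H j l k ^ m * d j l k = 0 := by
    intro j l k
    have e1 : W j ⊓ W l ⊓ W k = Z.basicOpen (H j l k) := by
      show _ = Z.basicOpen (Z.presheaf.map _ (G j k))
      rw [Scheme.basicOpen_res, ← hGo]
      ac_rfl
    have aff : IsAffineOpen (W j ⊓ W l ⊓ W k) := e1 ▸ (hW2 j l).basicOpen _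
    refine exists_pow_mul_eq_zero t ht (hW2 j l) _ inf_le_left e1 _ ?_
    let U := W j ⊓ W l ⊓ W k
    have hj : U ≤ W j := inf_le_left.trans inf_le_left
    have hl : U ≤ W l := inf_le_left.trans inf_le_right
    have hjk : U ≤ W j ⊓ W k := le_inf hj inf_le_right
    have hlk : U ≤ W l ⊓ W k := le_inf hl inf_le_right
    have a1 : rs Z hj (y' j k) = rs Z hj (G j k) ^ N * rs Z hjk (c j k) := by
      have := congr(rs Z hjk $(hyr' j k))
      simpa [rs_rs] using this
    have a2 : rs Z hl (y' l k) = rs Z hl (G l k) ^ N * rs Z hlk (c l k) := by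
      have := congr(rs Z hlk $(hyr' l k))
      simpa [rs_rs] using this
    have a3 : rs Z hl (G l k) ^ N * rs Z hlk (c l k) = rs Z hj (G j k) ^ N * rs Z hlk (c l k) := by
      refine mul_congr t hsq aff ?_ (by rw [app_rs, hc, map_zero])
      simp only [map_pow, app_rs, hG, rs_rs]
    have a4 : rs Z hjk (c j k) - rs Z hlk (c l k) = rs Z inf_le_left (c j l) := by
      simp only [c, map_sub, rs_rs]
      ring
    simp only [d, H, map_sub, map_mul, map_pow, rs_rs]
    rw [← a4]
    erw [a1, a2, a3]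
    ring
  choose m hm using hd
  let M := Finset.univ.sup fun p : (ι × ι) × ι => m p.1.1 p.1.2 p.2
  have hM : ∀ j l k, H j l k ^ M * d j l k = 0 := by
    intro j l k
    have hle : m j l k ≤ M :=
      Finset.le_sup (f := fun p : (ι × ι) × ι => m p.1.1 p.1.2 p.2) (Finset.mem_univ ((j, l), k))
    rw [← Nat.sub_add_cancel hle, pow_add, mul_assoc, hm, mul_zero]
  -- partition of unity
  have hspan' := Ideal.span_pow_eq_top _ hspan (M + N)
  rw [← Set.range_comp, Ideal.eq_top_iff_one, Ideal.mem_span_range_iff_exists_fun] at hspan'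
  obtain ⟨r, hr⟩ := hspan'
  choose A hA using fun j k => t.app_surjective (W j) (hW j) (rs Z₀ le_top (r k))
  let b : ∀ j, Γ(Z, W j) := fun j => ∑ k, A j k * G j k ^ M * y' j k
  have hb : ∀ j, t.app _ (b j) = 0 := fun j => by simp [b, hy']
  have hbc : ∀ j l, rs Z inf_le_left (b j) - rs Z inf_le_right (b l) = c j l := by
    intro j l
    have e : ∀ k, rs Z inf_le_left (A j k * G j k ^ M * y' j k)
        - rs Z inf_le_right (A l k * G l k ^ M * y' l k)
        = rs Z inf_le_left (A j k) * H j l k ^ (M + N) * c j l := by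
      intro k
      have e1 : rs Z inf_le_right (A l k * G l k ^ M * y' l k)
          = rs Z inf_le_left (A j k * G j k ^ M) * rs Z inf_le_right (y' l k) := by
        rw [map_mul]
        refine mul_congr t hsq (hW2 j l) ?_ (by rw [app_rs, hy', map_zero])
        simp only [map_mul, map_pow, app_rs, hA, hG, rs_rs]
      rw [e1, map_mul, map_mul, map_pow]
      have := hM j l k
      simp only [d] at this
      linear_combination (rs Z inf_le_left (A j k)) * this
    simp only [b, map_sum]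
    rw [← Finset.sum_sub_distrib, Finset.sum_congr rfl fun k _ => e k, ← Finset.sum_mul]
    conv_rhs => rw [← one_mul (c j l)]
    refine mul_congr t hsq (hW2 j l) ?_ (hc j l)
    simp only [H, map_sum, map_mul, map_pow, map_one, app_rs, hA, hG, rs_rs]
    rw [← map_one (rs Z₀ (le_top : t ⁻¹ᵁ (W j ⊓ W l) ≤ ⊤)), ← hr, map_sum]
    exact Finset.sum_congr rfl fun k _ => by simp [smul_eq_mul]
  obtain ⟨s, hs, -⟩ := Z.sheaf.existsUnique_gluing' W ⊤ (fun j => homOfLE le_top) hcov.ge
    (fun j => x j - b j) (fun j l => by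
      show rs Z inf_le_left (x j - b j) = rs Z inf_le_right (x l - b l)
      have := hbc j l
      simp only [c] at this
      rw [map_sub, map_sub]
      linear_combination -this)
  refine ⟨s, ?_⟩
  refine Z₀.sheaf.eq_of_locally_eq' (fun j => t ⁻¹ᵁ W j) ⊤ (fun j => homOfLE le_top) ?_ _ _ fun j => ?_
  · intro z _
    obtain ⟨j, hj⟩ := Opens.mem_iSup.mp (show t z ∈ ⨆ j, W j by rw [hcov]; trivial)
    exact Opens.mem_iSup.mpr ⟨j, hj⟩
  · show rs Z₀ le_top (t.app ⊤ s) = rs Z₀ le_top a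
    have e := app_rs t (le_top : W j ≤ ⊤) s
    rw [show rs Z le_top s = x j - b j from hs j, map_sub, hx, hb, sub_zero] at e
    exact e.symm

/-- A square-zero thickening of an affine scheme is affine. -/
theorem isAffine_of_sqZero : IsAffine Z := by
  classical
  haveI : CompactSpace Z := ⟨by
    rw [← Set.range_eq_univ.mpr ht]; exact isCompact_range t.continuous⟩
  have hloc : ∀ z : Z₀, ∃ (W : Z.Opens) (g : Γ(Z₀, ⊤)),
      IsAffineOpen W ∧ t ⁻¹ᵁ W = Z₀.basicOpen g ∧ z ∈ Z₀.basicOpen g := by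
    intro z
    obtain ⟨V, hV, hzV, -⟩ := exists_isAffineOpen_mem_and_subset (x := t z) (U := ⊤) trivial
    obtain ⟨g, hgle, hzg⟩ := (isAffineOpen_top Z₀).exists_basicOpen_le (⟨z, hzV⟩ : t ⁻¹ᵁ V) trivial
    obtain ⟨G, hG⟩ := t.app_surjective V hV (rs Z₀ le_top g)
    refine ⟨Z.basicOpen G, g, hV.basicOpen G, ?_, hzg⟩
    rw [Scheme.preimage_basicOpen, hG, rs, Scheme.basicOpen_res, inf_eq_right.mpr hgle]
  choose W g hW hpre hmem using hloc
  obtain ⟨F, hF⟩ := isCompact_univ.elim_finite_subcover (fun z => ((W z : Z.Opens) : Set Z))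
    (fun z => (W z).2) fun p _ => by
      obtain ⟨z, rfl⟩ := ht p
      exact Set.mem_iUnion.mpr ⟨z, (SetLike.ext_iff.mp (hpre z) z).mpr (hmem z)⟩
  have hcov : ⨆ j : F, W j = ⊤ := top_le_iff.mp fun p _ => by
    obtain ⟨z, hz, hp⟩ := Set.mem_iUnion₂.mp (hF (Set.mem_univ p))
    exact Opens.mem_iSup.mpr ⟨⟨z, hz⟩, hp⟩
  choose s hs using fun j : F => appTop_surjective t ht hsq (fun j : F => W j) (fun j => g j)
    (fun j => hW j) (fun j => hpre j) hcov (g j)
  have hbo : ∀ j : F, Z.basicOpen (s j) = W j := fun j => preimage_inj t ht (by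
    rw [Scheme.preimage_basicOpen_top, hs, hpre])
  refine isAffine_of_isAffineOpen_basicOpen (Set.range s) ?_ ?_
  · have h1 : Ideal.span (Set.range fun j : F => g j) = ⊤ := by
      rw [← (isAffineOpen_top Z₀).iSup_basicOpen_eq_self_iff]
      refine top_le_iff.mp fun z _ => ?_
      obtain ⟨j, hj⟩ := Opens.mem_iSup.mp (show t z ∈ ⨆ j : F, W j by rw [hcov]; trivial)
      exact Opens.mem_iSup.mpr ⟨⟨_, j, rfl⟩, hpre j ▸ hj⟩
    have h2 : (1 : Γ(Z₀, ⊤)) ∈ Ideal.map t.appTop.hom (Ideal.span (Set.range s)) := by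
      rw [Ideal.map_span, ← Set.range_comp, show ⇑t.appTop.hom ∘ s = fun j : F => g j from funext hs,
        h1]
      trivial
    have hsurj : Function.Surjective t.appTop.hom :=
      appTop_surjective t ht hsq (fun j : F => W j) (fun j => g j) (fun j => hW j) (fun j => hpre j) hcov
    obtain ⟨e, he, he1⟩ := (Ideal.mem_map_iff_of_surjective _ hsurj).mp h2
    refine Ideal.eq_top_of_isUnit_mem _ he ?_
    have hn : (1 - e) * (1 - e) = 0 := by
      refine Z.sheaf.eq_of_locally_eq' (fun j : F => W j) ⊤ (fun j => homOfLE le_top) hcov.ge _ _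
        fun j => ?_
      show rs Z le_top ((1 - e) * (1 - e)) = rs Z le_top 0
      rw [map_mul, map_zero]
      have h0 : t.app ⊤ (1 - e) = 0 := by
        show t.appTop.hom (1 - e) = 0
        rw [map_sub, map_one, he1, sub_self]
      exact hsq _ (hW j) _ _ (by rw [app_rs, h0, map_zero]) (by rw [app_rs, h0, map_zero])
    exact IsUnit.of_mul_eq_one (2 - e) (by linear_combination -hn)
  · rintro _ ⟨j, rfl⟩
    rw [hbo]
    exact hW j

end Groth.Agent.MorLib.Thick
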